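import Cfsg.Agent.H687.FourK.Sp
import Cfsg.Agent.H183.OutSp4

/-!
# S4547, QE10: the graph automorphism of `Y = isos (form 2 F) ≅ Sp₄(F)`, `F` finite of characteristic two (helper511)

* `gY` : the graph automorphism of `Y 2 F`; `gY (gY y)` is the entrywise square;
* `exists_pow` : every automorphism of `Y 2 F` is `conj x * gY ^ k`;
* `dvd_of_inner` : if `gY ^ k` is inner then `2 f ∣ k`;
* `tA`, `tB` : the class functions `trace y`, `trace (gY y)`;
* `TM` : `toSp y - 1` has rank at most one.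
-/

set_option autoImplicit false
set_option linter.unusedSectionVars false

open Cfsg

namespace Cfsg.Agent.H511.K547

open Matrix
open Cfsg.Agent.ClassicalGeometry.Sp4Graph Cfsg.Agent.ClassicalGeometry.Sp4GraphAut
open Cfsg.Agent.TitsThree.SpIdent
open Cfsg.Agent.H687.FourK.Sp (Y eqv)

universe u

variable {F : Type u} [Field F] [Finite F] [CharP F 2]

/-- the matrix group -/
abbrev Sp4 (F : Type u) [Field F] : Type u := ↥(Matrix.symplecticGroup (Fin 2) F)

/-- the isomorphism with the matrix group -/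
noncomputable def spE (F : Type u) [Field F] : Y 2 F ≃* Sp4 F :=
  MulEquiv.ofBijective toSp ⟨toSp_injective, toSp_surjective⟩

theorem spE_apply (y : Y 2 F) : spE F y = toSp y := rfl

/-- the graph automorphism -/
noncomputable def gY (F : Type u) [Field F] [Finite F] [CharP F 2] : MulAut (Y 2 F) :=
  MulAut.congr (spE F).symm (graphEquiv F)

theorem toSp_gY (y : Y 2 F) : toSp (gY F y) = graphHom F (toSp y) := by
  show spE F ((spE F).symm (graphEquiv F ((spE F).symm.symm y))) = _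
  rw [MulEquiv.apply_symm_apply]
  rfl

theorem toSp_gY_gY (y : Y 2 F) (i j : I4) :
    (toSp (gY F (gY F y)) : Matrix I4 I4 F) i j = (toSp y : Matrix I4 I4 F) i j ^ 2 := by
  rw [toSp_gY, toSp_gY, graphHom_graphHom]

theorem toSp_gY_pow (j : ℕ) (y : Y 2 F) (i k : I4) :
    (toSp ((gY F ^ (2 * j)) y) : Matrix I4 I4 F) i k = (toSp y : Matrix I4 I4 F) i k ^ 2 ^ j := by
  induction j generalizing y with
  | zero => rw [mul_zero, pow_zero, pow_zero, pow_one]; rfl
  | succ j ih =>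
    rw [mul_add, mul_one, pow_add, MulAut.mul_apply, ih, sq, MulAut.mul_apply, toSp_gY_gY, ← pow_mul, ← pow_succ']

theorem eqv_apply (y : Y 2 F) : eqv (m := 2) (F := F) y = QuotientGroup.mk (toSp y) := rfl

theorem congr_gY : MulAut.congr (eqv (m := 2) (F := F)) (gY F) = gamma F := by
  ext x
  obtain ⟨y, rfl⟩ := (eqv (m := 2) (F := F)).surjective x
  show eqv (gY F ((eqv (m := 2) (F := F)).symm (eqv y))) = gamma F (eqv y)
  rw [MulEquiv.symm_apply_apply, eqv_apply, eqv_apply, toSp_gY, gamma_mk]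

theorem congr_conj (x : Y 2 F) :
    MulAut.congr (eqv (m := 2) (F := F)) (MulAut.conj x) = MulAut.conj (eqv (m := 2) (F := F) x) := by
  ext z
  obtain ⟨y, rfl⟩ := (eqv (m := 2) (F := F)).surjective z
  show eqv (MulAut.conj x ((eqv (m := 2) (F := F)).symm (eqv y))) = _
  rw [MulEquiv.symm_apply_apply, MulAut.conj_apply, MulAut.conj_apply, map_mul, map_mul, map_inv]

/-- if `gY ^ k` is inner then `2 f ∣ k` -/
theorem dvd_of_inner {f k : ℕ} (hf : 1 ≤ f) (hF : Nat.card F = 2 ^ f) {x : Y 2 F} (h : gY F ^ k = MulAut.conj x) :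
    2 * f ∣ k := by
  have : Fintype F := Fintype.ofFinite F
  have hF' : Fintype.card F = 2 ^ f := by rw [← hF, Nat.card_eq_fintype_card]
  have h1 : gamma F ^ k ∈ Cfsg.Inn (PSp 2 F) := by
    rw [← congr_gY, ← map_pow, h, congr_conj]
    exact ⟨_, rfl⟩
  rcases Nat.even_or_odd' k with ⟨j, rfl | rfl⟩
  · exact Nat.mul_dvd_mul_left 2 (H183.OutSp4.dvd_of_pow_eq hf hF' fun t => H183.OutSp4.pow_eq_of_inn h1 t)
  · exact absurd h1 (H183.OutSp4.gamma_pow_odd_not_inn j)

/-- **every automorphism is `conj x * gY ^ k`** -/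
theorem exists_pow (β : MulAut (Y 2 F)) : ∃ (x : Y 2 F) (k : ℕ), β = MulAut.conj x * gY F ^ k := by
  have : Fintype F := Fintype.ofFinite F
  obtain ⟨f, -, hF⟩ := FiniteField.card F 2
  have hf : 1 ≤ (f : ℕ) := f.pos
  have hF' : Nat.card F = 2 ^ (f : ℕ) := by rw [Nat.card_eq_fintype_card, hF]
  obtain ⟨-, hc⟩ := H183.OutSp4.out_psp4 hf hF
  have hfin : Finite (PSp 2 F) := Finite.of_surjective _ (QuotientGroup.mk_surjective
    (s := Subgroup.center (Matrix.symplecticGroup (Fin 2) F)))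
  have hfinA : Finite (MulAut (PSp 2 F)) :=
    Finite.of_injective (fun α : MulAut (PSp 2 F) => (α : PSp 2 F → PSp 2 F))
      (fun α β h => MulEquiv.ext fun x => congrFun h x)
  have hfinO : Finite (Cfsg.Out (PSp 2 F)) := inferInstance
  set g : Cfsg.Out (PSp 2 F) := QuotientGroup.mk (gamma F) with hg
  have hdvd : 2 * (f : ℕ) ∣ orderOf g := by
    have h1 : gamma F ^ (orderOf g) ∈ Cfsg.Inn (PSp 2 F) := by
      rw [← QuotientGroup.eq_one_iff, QuotientGroup.mk_pow]
      exact pow_orderOf_eq_one g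
    rcases Nat.even_or_odd' (orderOf g) with ⟨j, hj | hj⟩
    · rw [hj] at h1 ⊢
      exact Nat.mul_dvd_mul_left 2 (H183.OutSp4.dvd_of_pow_eq hf hF (fun t => H183.OutSp4.pow_eq_of_inn h1 t))
    · exfalso
      rw [hj] at h1
      exact H183.OutSp4.gamma_pow_odd_not_inn j h1
  have ho : orderOf g = Nat.card (Cfsg.Out (PSp 2 F)) := by
    refine le_antisymm (Nat.le_of_dvd Nat.card_pos (orderOf_dvd_natCard g)) ?_
    rw [hc]
    exact Nat.le_of_dvd (orderOf_pos g) hdvd
  have htop : Subgroup.zpowers g = ⊤ := by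
    apply Subgroup.eq_top_of_card_eq
    rw [Nat.card_zpowers, ho]
  set β' := MulAut.congr (eqv (m := 2) (F := F)) β with hβ'
  have h1 : (QuotientGroup.mk β' : Cfsg.Out (PSp 2 F)) ∈ Subgroup.zpowers g := by rw [htop]; trivial
  rw [← mem_powers_iff_mem_zpowers, Submonoid.mem_powers_iff] at h1
  obtain ⟨k, hk⟩ := h1
  have h2 : β' * (gamma F ^ k)⁻¹ ∈ Cfsg.Inn (PSp 2 F) := by
    rw [← QuotientGroup.eq_one_iff, QuotientGroup.mk_mul, QuotientGroup.mk_inv, QuotientGroup.mk_pow, ← hg, hk,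
      mul_inv_cancel]
  obtain ⟨x, hx⟩ := h2
  refine ⟨(eqv (m := 2) (F := F)).symm x, k, ?_⟩
  apply (MulAut.congr (eqv (m := 2) (F := F))).injective
  rw [map_mul, map_pow, congr_gY, congr_conj, MulEquiv.apply_symm_apply, ← hβ']
  have hx' : MulAut.conj x = β' * (gamma F ^ k)⁻¹ := hx
  rw [hx', inv_mul_cancel_right]

/-- powers of `conj x * gY ^ k` -/
theorem conj_mul_pow (x : Y 2 F) (k m : ℕ) :
    ∃ x' : Y 2 F, (MulAut.conj x * gY F ^ k) ^ m = MulAut.conj x' * gY F ^ (k * m) := by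
  induction m with
  | zero => exact ⟨1, by simp⟩
  | succ m ih =>
    obtain ⟨s, hs⟩ := ih
    refine ⟨s * (gY F ^ (k * m)) x, ?_⟩
    rw [pow_succ, hs, mul_add, mul_one, pow_add]
    ext z
    simp only [MulAut.mul_apply, MulAut.conj_apply, map_mul, map_inv, _root_.mul_inv_rev, mul_assoc]

/-- `conj x * gY ^ k` of `2`-power order -/
theorem dvd_of_pow_eq_one {f k N : ℕ} (hf : 1 ≤ f) (hF : Nat.card F = 2 ^ f) {x : Y 2 F}
    (h : (MulAut.conj x * gY F ^ k) ^ 2 ^ N = 1) : 2 * f ∣ k * 2 ^ N := by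
  obtain ⟨x', hx'⟩ := conj_mul_pow x k (2 ^ N)
  rw [h] at hx'
  refine dvd_of_inner hf hF (x := x'⁻¹) ?_
  rw [map_inv, eq_inv_iff_mul_eq_one]
  have h1 : MulAut.conj x' * gY F ^ (k * 2 ^ N) = 1 := hx'.symm
  rw [mul_eq_one_iff_eq_inv] at h1
  rw [h1, mul_inv_cancel]

/-- if `2 f ∣ k` then `gY ^ k = 1` -/
theorem gY_pow_eq_one {f k : ℕ} (hF : Nat.card F = 2 ^ f) (h : 2 * f ∣ k) : gY F ^ k = 1 := by
  have : Fintype F := Fintype.ofFinite F
  obtain ⟨j, rfl⟩ := h
  ext1 y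
  apply toSp_injective
  apply Subtype.ext
  ext i k
  rw [mul_assoc, toSp_gY_pow]
  have h1 : ∀ (j : ℕ) (t : F), t ^ 2 ^ (f * j) = t := by
    intro j t
    induction j with
    | zero => simp
    | succ j ih =>
      rw [mul_add, mul_one, pow_add, pow_mul, ih, ← hF, Nat.card_eq_fintype_card]
      exact FiniteField.pow_card t
  rw [h1]
  rfl

/-! ### the traces -/

/-- the trace -/
noncomputable def tA (y : Y 2 F) : F := (toSp y : Matrix I4 I4 F).trace

/-- the trace of the image under the graph automorphism -/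
noncomputable def tB (y : Y 2 F) : F := tA (gY F y)

theorem tA_conj (x y : Y 2 F) : tA (x * y * x⁻¹) = tA y := by
  unfold tA
  rw [map_mul, map_mul, map_inv]
  show ((toSp x : Matrix I4 I4 F) * (toSp y : Matrix I4 I4 F) * (((toSp x)⁻¹ : Sp4 F) : Matrix I4 I4 F)).trace = _
  rw [Matrix.trace_mul_comm, ← mul_assoc]
  have : (((toSp x)⁻¹ : Sp4 F) : Matrix I4 I4 F) * (toSp x : Matrix I4 I4 F) = 1 :=
    congrArg Subtype.val (inv_mul_cancel (toSp x))
  rw [this, one_mul]

theorem tB_conj (x y : Y 2 F) : tB (x * y * x⁻¹) = tB y := by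
  unfold tB
  rw [map_mul, map_mul, map_inv, tA_conj]

theorem tA_gY_pow (j : ℕ) (y : Y 2 F) : tA ((gY F ^ (2 * j)) y) = tA y ^ 2 ^ j := by
  unfold tA
  rw [Matrix.trace, Matrix.trace, ← iterateFrobenius_def (p := 2), map_sum]
  refine Finset.sum_congr rfl fun i _ => ?_
  rw [iterateFrobenius_def]
  exact toSp_gY_pow j y i i

theorem tB_gY_pow (j : ℕ) (y : Y 2 F) : tB ((gY F ^ (2 * j)) y) = tB y ^ 2 ^ j := by
  unfold tB
  rw [← MulAut.mul_apply, ← pow_succ', pow_succ, MulAut.mul_apply, tA_gY_pow]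

theorem tA_gY_odd (j : ℕ) (y : Y 2 F) : tA ((gY F ^ (2 * j + 1)) y) = tB y ^ 2 ^ j := by
  rw [pow_succ, MulAut.mul_apply, tA_gY_pow]
  rfl

theorem tB_gY_odd (j : ℕ) (y : Y 2 F) : tB ((gY F ^ (2 * j + 1)) y) = tA y ^ 2 ^ (j + 1) := by
  unfold tB
  rw [← MulAut.mul_apply, ← pow_succ', show 2 * j + 1 + 1 = 2 * (j + 1) by ring, tA_gY_pow]

/-! ### rank one -/

/-- `A - 1` has rank at most one -/
def TM (A : Matrix I4 I4 F) : Prop := ∃ w a : I4 → F, ∀ i j, A i j = (if i = j then 1 else 0) + w i * a j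

theorem TM.map_pow {A B : Matrix I4 I4 F} (h : TM A) (m : ℕ) (hB : ∀ i j, B i j = A i j ^ 2 ^ m) : TM B := by
  obtain ⟨w, a, h⟩ := h
  refine ⟨fun i => w i ^ 2 ^ m, fun j => a j ^ 2 ^ m, fun i j => ?_⟩
  rw [hB, h, add_pow_char_pow, mul_pow]
  split_ifs
  · rw [one_pow]
  · rw [zero_pow (pow_ne_zero _ two_ne_zero)]

theorem TM.conj {A P P' : Matrix I4 I4 F} (h : TM A) (hP : P * P' = 1) : TM (P * A * P') := by
  obtain ⟨w, a, h⟩ := h
  have e : A = 1 + Matrix.vecMulVec w a := by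
    ext i j
    rw [h, Matrix.add_apply, Matrix.one_apply, Matrix.vecMulVec_apply]
  refine ⟨P *ᵥ w, a ᵥ* P', fun i j => ?_⟩
  rw [e, mul_add, add_mul, mul_one, hP, Matrix.add_apply, Matrix.one_apply, Matrix.mul_vecMulVec,
    Matrix.vecMulVec_mul, Matrix.vecMulVec_apply]

theorem TM.conj_iff (x y : Y 2 F) :
    TM (toSp (x * y * x⁻¹) : Matrix I4 I4 F) ↔ TM (toSp y : Matrix I4 I4 F) := by
  have key : ∀ x y : Y 2 F, TM (toSp y : Matrix I4 I4 F) → TM (toSp (x * y * x⁻¹) : Matrix I4 I4 F) := by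
    intro x y h
    have e : (toSp (x * y * x⁻¹) : Matrix I4 I4 F) =
        (toSp x : Matrix I4 I4 F) * (toSp y : Matrix I4 I4 F) * (((toSp x)⁻¹ : Sp4 F) : Matrix I4 I4 F) := by
      rw [map_mul, map_mul, map_inv]
      rfl
    rw [e]
    exact h.conj (congrArg Subtype.val (mul_inv_cancel (toSp x)))
  refine ⟨fun h => ?_, key x y⟩
  have := key x⁻¹ _ h
  have e : x⁻¹ * (x * y * x⁻¹) * x⁻¹⁻¹ = y := by group
  rwa [e] at this

/-- the shape of short root elements -/
def SM (A : Matrix I4 I4 F) (c : F) : Prop := ∀ i j, A i j = (if i = j then 1 else 0) +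
  (if i = .inr 0 ∧ j = .inr 1 then c else 0) + (if i = .inl 1 ∧ j = .inl 0 then c else 0)

theorem SM.not_TM {A : Matrix I4 I4 F} {c : F} (h : SM A c) (hc : c ≠ 0) : ¬ TM A := by
  rintro ⟨w, a, hw⟩
  have h1 := (h (.inr 0) (.inr 1)).symm.trans (hw (.inr 0) (.inr 1))
  have h2 := (h (.inl 1) (.inl 0)).symm.trans (hw (.inl 1) (.inl 0))
  have h3 := (h (.inr 0) (.inl 0)).symm.trans (hw (.inr 0) (.inl 0))
  simp at h1 h2 h3
  rcases h3 with h3 | h3
  · exact hc (by rw [h1, h3, zero_mul])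
  · exact hc (by rw [h2, h3, mul_zero])

theorem SM.map_pow {A B : Matrix I4 I4 F} {c : F} (h : SM A c) (m : ℕ) (hB : ∀ i j, B i j = A i j ^ 2 ^ m) :
    SM B (c ^ 2 ^ m) := by
  intro i j
  have h0 : (0 : F) ^ 2 ^ m = 0 := zero_pow (pow_ne_zero _ two_ne_zero)
  rw [hB, h, add_pow_char_pow, add_pow_char_pow]
  congr 1
  · congr 1
    · split_ifs
      · rw [one_pow]
      · rw [h0]
    · split_ifs
      · rfl
      · rw [h0]
  · split_ifs
    · rfl
    · rw [h0]

/-- the shape of the elements of the long root group -/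
def LM (A : Matrix I4 I4 F) (c : F) : Prop := ∀ i j, A i j = (if i = j then 1 else 0) +
  (if i = .inr 1 ∧ j = .inl 1 then c else 0)

theorem LM.TM {A : Matrix I4 I4 F} {c : F} (h : LM A c) : TM A := by
  refine ⟨fun i => if i = .inr 1 then c else 0, fun j => if j = .inl 1 then 1 else 0, fun i j => ?_⟩
  rw [h]
  congr 1
  show _ = (if i = .inr 1 then c else 0) * (if j = .inl 1 then 1 else 0)
  by_cases h1 : i = .inr 1
  · by_cases h2 : j = .inl 1
    · rw [if_pos ⟨h1, h2⟩, if_pos h1, if_pos h2, mul_one]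
    · rw [if_neg (fun h => h2 h.2), if_neg h2, mul_zero]
  · rw [if_neg (fun h => h1 h.1), if_neg h1, zero_mul]

theorem LM.graph {A : Matrix I4 I4 F} {c : F} (h : LM A c) : SM (mn A) c := by
  intro i j
  rw [mn_apply, h, h, h, h]
  rcases i with i | i <;> rcases j with j | j <;> fin_cases i <;> fin_cases j <;> simp [pa, pb]

end Cfsg.Agent.H511.K547
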