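import Cfsg.Agent.H511.K547.SpExt
import Cfsg.Agent.H967.K547.Special

/-!
# S4547, QE10: the special row of `Sp₄(2 ^ 2 ^ e)` (helper511)

* `gY_pow_X`, `gY_pow_Z`, `fix_U`, `fix_UN` : the field automorphisms fix the root groups;
* `sq_eq` : `β ^ 2 = conj s * gY ^ (2 k)` with `s` in the torus;
* `no_fix` : `β` has no fixed points on the torus;
* `oneHom` : there is at most one non trivial `β`-invariant homomorphism `U →* ℤˣ`;
* `special_Y` : the special row.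
-/

set_option autoImplicit false
set_option linter.unusedSectionVars false

open Cfsg

namespace Cfsg.Agent.H511.K547

open Matrix
open Cfsg.Agent.ClassicalGeometry.Sp4Graph Cfsg.Agent.ClassicalGeometry.Sp4GraphAut
open Cfsg.Agent.TitsThree.SpIdent Cfsg.Agent.TitsThree.WittFrame Cfsg.Agent.TitsThree.WittWeyl
open Cfsg.Agent.H687.FourK.Sp
open CoxeterSystem Cfsg.Agent.ChevalleyStructure.CoxeterGeom Cfsg.Agent.Tits.Roots Cfsg.Agent.Tits.Core
  Cfsg.Agent.Nodes.Reps Cfsg.Agent.Nodes.BNOf Cfsg.Agent.Nodes.StabComb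
  Cfsg.Agent.Nodes.Bruhat Cfsg.Agent.Nodes.TypeC Cfsg.Agent.Nodes.WittRoot
open Cfsg.Agent.H821.K547 Cfsg.Agent.H307.QE
open Cfsg.Agent.Nodes Cfsg.Agent.Nodes.OppDec Cfsg.Agent.KFacts.RgdAut Cfsg.Agent.KFacts.RgdDiag

universe u

variable {F : Type u} [Field F] [Finite F] [CharP F 2]

/-! ### the field automorphisms on the root groups -/

theorem single_b (z : Fin 2 × Bool) :
    ∃ j : I4, (frame 2 F).b z = (Pi.single j 1 : I4 → F) := by
  obtain ⟨i, s⟩ := z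
  cases s
  · exact ⟨.inl i, rfl⟩
  · exact ⟨.inr i, rfl⟩

theorem b_pow (z : Fin 2 × Bool) (i : I4) (m : ℕ) : (frame 2 F).b z i ^ 2 ^ m = (frame 2 F).b z i := by
  obtain ⟨j, hj⟩ := single_b (F := F) z
  rw [hj, Pi.single_apply]
  split_ifs
  · rw [one_pow]
  · rw [zero_pow (pow_ne_zero _ two_ne_zero)]

/-- the field automorphism on vectors of the frame -/
theorem gY_pow_b (m : ℕ) (y : Y 2 F) (z : Fin 2 × Bool) (i : I4) :
    ((gY F ^ (2 * m)) y).1 ((frame 2 F).b z) i = (y.1 ((frame 2 F).b z) i) ^ 2 ^ m := by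
  obtain ⟨j, hj⟩ := single_b (F := F) z
  rw [hj, ← toSp_apply, ← toSp_apply, toSp_gY_pow]

theorem ext_b {g g' : V 2 F ≃ₗ[F] V 2 F} (h : ∀ (z : Fin 2 × Bool) (i : I4),
    g ((frame 2 F).b z) i = g' ((frame 2 F).b z) i) : g = g' := by
  have h1 : mat g = mat g' := by
    ext i j
    rw [mat_apply, mat_apply]
    rcases j with j | j
    · exact h (j, false) i
    · exact h (j, true) i
  apply LinearEquiv.ext
  intro v
  rw [← mat_mulVec, ← mat_mulVec, h1]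

theorem eta_one (z : Fin 2 × Bool) : (frame 2 F).η z = 1 := by
  unfold Frame.η
  rw [form_ε, CharTwo.neg_eq]
  split_ifs <;> rfl

theorem X_b {a b : Fin 2 × Bool} (hab : a.1 ≠ b.1) (t : F) (z : Fin 2 × Bool) (i : I4) :
    (frame 2 F).X a b t ((frame 2 F).b z) i = (frame 2 F).b z i + (if z = neg b then t else 0) * (frame 2 F).b a i +
      (if z = neg a then t else 0) * (frame 2 F).b b i := by
  by_cases h1 : z = neg b
  · have h2 : z ≠ neg a := by
      intro h2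
      apply hab
      have := congrArg Prod.fst (h2.symm.trans h1)
      exact this
    rw [if_pos h1, if_neg h2, zero_mul, add_zero, h1, X_apply_neg (frame 2 F) hab t, Pi.add_apply, Pi.smul_apply,
      smul_eq_mul]
  · rw [if_neg h1, zero_mul, add_zero]
    by_cases h2 : z = neg a
    · rw [if_pos h2, h2]
      have h3 := X_apply_neg' (frame 2 F) hab t
      rw [eta_one, eta_one, form_ε, form_σ, CharTwo.neg_eq, inv_one, one_mul, one_mul, one_mul, sub_eq_add_neg,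
        ← neg_smul, CharTwo.neg_eq] at h3
      rw [h3, Pi.add_apply, Pi.smul_apply, smul_eq_mul]
    · rw [if_neg h2, zero_mul, add_zero, X_apply_of_ne (frame 2 F) hab h2 h1 t]

theorem Z_b (a : Fin 2 × Bool) (p : (frame 2 F).Adm) (z : Fin 2 × Bool) (i : I4) :
    (frame 2 F).Z a p ((frame 2 F).b z) i = (frame 2 F).b z i + (if z = neg a then p.c else 0) * (frame 2 F).b a i := by
  have hw : p.w = 0 := p.ok
  by_cases hz : z = neg a
  · rw [if_pos hz, hz, Z_apply_neg (frame 2 F) a p, hw, smul_zero, add_zero, eta_one, mul_one, Pi.add_apply,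
      Pi.smul_apply, smul_eq_mul]
  · rw [if_neg hz, zero_mul, add_zero, Z_apply_of_ne (frame 2 F) hz p]

theorem ite_pow' (P : Prop) [Decidable P] (t : F) (m : ℕ) : (if P then t else 0) ^ 2 ^ m = if P then t ^ 2 ^ m else 0 := by
  split_ifs
  · rfl
  · rw [zero_pow (pow_ne_zero _ two_ne_zero)]

theorem gY_pow_X (m : ℕ) {a b : Fin 2 × Bool} (hab : a.1 ≠ b.1) (t : F) {y : Y 2 F}
    (hy : y.1 = (frame 2 F).X a b t) : ((gY F ^ (2 * m)) y).1 = (frame 2 F).X a b (t ^ 2 ^ m) := by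
  apply ext_b
  intro z i
  rw [gY_pow_b, hy, X_b hab, X_b hab, add_pow_char_pow, add_pow_char_pow, mul_pow, mul_pow, b_pow, b_pow, b_pow,
    ite_pow', ite_pow']

theorem gY_pow_Z (m : ℕ) (a : Fin 2 × Bool) (p : (frame 2 F).Adm) {y : Y 2 F}
    (hy : y.1 = (frame 2 F).Z a p) : ((gY F ^ (2 * m)) y).1 = (frame 2 F).Z a (adm (p.c ^ 2 ^ m)) := by
  apply ext_b
  intro z i
  rw [gY_pow_b, hy, Z_b, Z_b, add_pow_char_pow, mul_pow, b_pow, b_pow, ite_pow']
  rfl

theorem gY_pow_XX (m : ℕ) {x : Fin 2 → ℤ} (hx : IsRoot csB (isCartan 2) x) {y : Y 2 F} (hy : y ∈ XX 2 F x) :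
    (gY F ^ (2 * m)) y ∈ XX 2 F x := by
  obtain ⟨a, b, hab, e⟩ := isRoot_iff.1 hx
  have h1 : y.1 ∈ rg (frame 2 F) x := Subgroup.mem_subgroupOf.1 hy
  refine Subgroup.mem_subgroupOf.2 ?_
  rw [rg_eq (frame 2 F) hab e] at h1 ⊢
  rcases hab with hab | rfl
  · rw [PG_ne _ hab] at h1 ⊢
    obtain ⟨t, ht⟩ := h1
    exact ⟨_, gY_pow_X m hab t ht⟩
  · rw [PG_self] at h1 ⊢
    obtain ⟨p, hp⟩ := h1
    exact ⟨_, gY_pow_Z m a p hp⟩

theorem fix_of_le {G : Type*} [Group G] [Finite G] {α : MulAut G} {H : Subgroup G} (h : ∀ x ∈ H, α x ∈ H) : Fix α H := by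
  have h1 : H.map α.toMonoidHom ≤ H := by
    rintro _ ⟨x, hx, rfl⟩
    exact h x hx
  have h2 : H.map α.toMonoidHom = H := by
    refine Subgroup.eq_of_le_of_card_ge h1 ?_
    rw [Subgroup.card_map_of_injective α.injective]
  intro x
  constructor
  · intro hx
    rw [← h2] at hx
    obtain ⟨y, hy, e⟩ := hx
    rwa [← α.injective e]
  · exact h x

theorem fix_Sup (m : ℕ) {S : Set (Fin 2 → ℤ)} (hS : ∀ x ∈ S, IsRoot csB (isCartan 2) x) :
    Fix (gY F ^ (2 * m)) (RGD.Sup (XX 2 F) S) := by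
  refine fix_of_le fun y hy => ?_
  have h1 : RGD.Sup (XX 2 F) S ≤ (RGD.Sup (XX 2 F) S).comap (gY F ^ (2 * m)).toMonoidHom := by
    refine RGD.Sup_le fun x hx => ?_
    intro y hy
    exact RGD.le_Sup (S := S) hx (gY_pow_XX m (hS x hx) hy)
  exact h1 hy

variable {β : MulAut (Y 2 F)} {σ : Equiv.Perm (Fin 2)}

theorem Fix.mul' {G : Type*} [Group G] {α γ : MulAut G} {H : Subgroup G} (h1 : Fix α H) (h2 : Fix γ H) :
    Fix (α * γ) H := fun x => (h1 (γ x)).trans (h2 x)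

theorem Fix.inv' {G : Type*} [Group G] {α : MulAut G} {H : Subgroup G} (h1 : Fix α H) : Fix α⁻¹ H := by
  intro x
  have := h1 (α⁻¹ x)
  rw [MulAut.apply_inv_self] at this
  exact this.symm

/-- the square of `β` -/
theorem sq_eq (hN : Nrm (RR F) β σ) {x : Y 2 F} {k : ℕ} (hβ : β = MulAut.conj x * gY F ^ k) :
    ∃ s ∈ TT 2 F, β ^ 2 = MulAut.conj s * gY F ^ (2 * k) := by
  obtain ⟨s, hs⟩ := conj_mul_pow x k 2
  rw [← hβ, mul_comm k 2] at hs
  have h1 : MulAut.conj s = β ^ 2 * (gY F ^ (2 * k))⁻¹ := by rw [hs, mul_inv_cancel_right]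
  refine ⟨s, mem_T_of_conj (RR F) (hGG F) ?_ ?_, hs⟩
  · rw [h1]
    exact Fix.mul' (Fix.pow hN.fixU 2) (Fix.inv' (fix_Sup k fun x hx => hx.1))
  · rw [h1]
    exact Fix.mul' (Fix.pow hN.fixUN 2) (Fix.inv' (fix_Sup k fun x hx => hx.1))

/-! ### number theory -/

theorem unit_eq_one {k f : ℕ} (hc : Nat.Coprime k f) (hF : Nat.card F = 2 ^ f) {a : Fˣ} (ha : a ^ 2 ^ k = a) :
    a = 1 := by
  have h1 : a ^ (2 ^ k - 1) = 1 := by
    have h2 : 2 ^ k = (2 ^ k - 1) + 1 := by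
      have := Nat.one_le_two_pow (n := k)
      omega
    rw [h2, pow_succ] at ha
    exact mul_eq_right.1 ha
  have h2 : a ^ (2 ^ f - 1) = 1 := by
    have h3 : Nat.card Fˣ = 2 ^ f - 1 := by rw [Nat.card_units, hF]
    rw [← h3]
    exact pow_card_eq_one'
  have h3 := Nat.dvd_gcd (orderOf_dvd_of_pow_eq_one h1) (orderOf_dvd_of_pow_eq_one h2)
  rw [Nat.pow_sub_one_gcd_pow_sub_one, hc.gcd_eq_one, pow_one] at h3
  exact orderOf_eq_one_iff.1 (Nat.dvd_one.1 h3)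

/-- **`β` has no fixed points on the torus.** -/
theorem no_fix (hN : Nrm (RR F) β σ) {x : Y 2 F} {k f : ℕ} (hβ : β = MulAut.conj x * gY F ^ k)
    (hc : Nat.Coprime k f) (hF : Nat.card F = 2 ^ f) : ∀ t ∈ TT 2 F, β t = t → t = 1 := by
  intro t ht h
  obtain ⟨s, hs, e⟩ := sq_eq hN hβ
  have h1 : (β ^ 2) t = t := by rw [sq, MulAut.mul_apply, h, h]
  rw [e, MulAut.mul_apply, MulAut.conj_apply] at h1
  have h2 : (gY F ^ (2 * k)) t = t := by
    have h3 : ∀ z : Y 2 F, s * z * s⁻¹ = t → z = s⁻¹ * t * s := by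
      rintro z rfl
      group
    rw [h3 _ h1, mul_assoc, comm t ht s hs, inv_mul_cancel_left]
  have h4 : ∀ i : I4, (toSp t : Matrix I4 I4 F) i i ^ 2 ^ k = (toSp t : Matrix I4 I4 F) i i := by
    intro i
    rw [← toSp_gY_pow, h2]
  have h5 : (⟨t, ht⟩ : TT 2 F) = 1 := by
    refine ext_ev fun i => ?_
    rw [map_one]
    apply unit_eq_one hc hF
    apply Units.ext
    have h6 := h4 (.inr i)
    have h7 := coe_tor (⟨t, ht⟩ : TT 2 F) (.inr i) (.inr i)
    rw [if_pos rfl] at h7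
    rw [h7] at h6
    rw [Units.val_pow_eq_pow_val]
    exact h6
  exact congrArg Subtype.val h5

/-! ### homomorphisms to `±1` -/

/-- at most one nontrivial additive character is invariant under `c ↦ a c ^ 2 ^ k` -/
theorem char_unique {a : F} (ha : a ≠ 0) {k : ℕ} (hk : ∀ u : Fˣ, u ^ 2 ^ k = u → u = 1) {l m : F → ℤˣ}
    (hl : ∀ c d, l (c + d) = l c * l d) (hm : ∀ c d, m (c + d) = m c * m d) (hl' : ∀ c, l (a * c ^ 2 ^ k) = l c)
    (hm' : ∀ c, m (a * c ^ 2 ^ k) = m c) {c₀ d₀ : F} (hc₀ : l c₀ ≠ 1) (hd₀ : m d₀ ≠ 1) : l = m := by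
  let A : F →+ F := AddMonoidHom.mk' (fun c => a * c ^ 2 ^ k - c) fun c d => by
    show a * (c + d) ^ 2 ^ k - (c + d) = _
    rw [add_pow_char_pow]
    ring
  have hker : Nat.card A.ker ≤ 2 := by
    have h1 : ∀ c ∈ A.ker, ∀ d ∈ A.ker, c ≠ 0 → d ≠ 0 → c = d := by
      intro c hc d hd c0 d0
      have hc' : a * c ^ 2 ^ k = c := sub_eq_zero.1 hc
      have hd' : a * d ^ 2 ^ k = d := sub_eq_zero.1 hd
      have h2 := hk (Units.mk0 c c0 / Units.mk0 d d0) (by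
        apply Units.ext
        rw [Units.val_pow_eq_pow_val, Units.val_div_eq_div_val, Units.val_mk0, Units.val_mk0, div_pow,
          div_eq_div_iff (pow_ne_zero _ d0) d0]
        apply mul_left_cancel₀ ha
        calc a * (c ^ 2 ^ k * d) = a * c ^ 2 ^ k * d := by ring
          _ = c * (a * d ^ 2 ^ k) := by rw [hc', hd']
          _ = a * (c * d ^ 2 ^ k) := by ring)
      have h3 := congrArg Units.val (div_eq_one.1 h2)
      exact h3
    classical
    have h2 : Function.Injective fun c : A.ker => decide ((c : F) = 0) := by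
      intro c d hcd
      have hcd' := decide_eq_decide.1 hcd
      by_cases c0 : (c : F) = 0
      · exact Subtype.ext (c0.trans (hcd'.1 c0).symm)
      · exact Subtype.ext (h1 c c.2 d d.2 c0 fun h => c0 (hcd'.2 h))
    have h3 := Nat.card_le_card_of_injective _ h2
    rwa [Nat.card_eq_fintype_card (α := Bool), Fintype.card_bool] at h3
  have hidx : A.range.index ≤ 2 := by
    have h1 := AddSubgroup.card_mul_index A.ker
    rw [AddSubgroup.index_ker] at h1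
    have h2 := AddSubgroup.card_mul_index A.range
    have h3 : 0 < Nat.card A.range := Nat.card_pos
    have h4 : A.range.index = Nat.card A.ker := by
      apply Nat.eq_of_mul_eq_mul_left h3
      rw [h2, ← h1, mul_comm]
    rw [h4]
    exact hker
  have key : ∀ l : F → ℤˣ, (∀ c d, l (c + d) = l c * l d) → (∀ c, l (a * c ^ 2 ^ k) = l c) → ∀ c₀, l c₀ ≠ 1 →
      ∀ c, l c = 1 ↔ c ∈ A.range := by
    intro l hl hl' c₀ hc₀ c
    have h0 : ∀ c ∈ A.range, l c = 1 := by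
      rintro _ ⟨c, rfl⟩
      show l (a * c ^ 2 ^ k - c) = 1
      have h1 := hl (a * c ^ 2 ^ k - c) c
      rw [sub_add_cancel, hl'] at h1
      exact mul_eq_right.1 h1.symm
    refine ⟨fun h => ?_, h0 c⟩
    by_contra hc
    have h1 : A.range.index = 2 := by
      have h2 : A.range.index ≠ 1 := by
        intro h2
        rw [AddSubgroup.index_eq_one] at h2
        rw [h2] at hc
        exact hc trivial
      have h3 : A.range.index ≠ 0 := AddSubgroup.index_ne_zero_of_finite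
      omega
    apply hc₀
    by_cases h2 : c₀ ∈ A.range
    · exact h0 _ h2
    · have h3 : c₀ + c ∈ A.range := (AddSubgroup.add_mem_iff_of_index_two h1).2 (iff_of_false h2 hc)
      have h4 := h0 _ h3
      rwa [hl, h, mul_one] at h4
  funext c
  by_cases h : c ∈ A.range
  · rw [(key l hl hl' c₀ hc₀ c).2 h, (key m hm hm' d₀ hd₀ c).2 h]
  · have h1 := mt (key l hl hl' c₀ hc₀ c).1 h
    have h2 := mt (key m hm hm' d₀ hd₀ c).1 h
    rw [(Int.units_eq_one_or (l c)).resolve_left h1, (Int.units_eq_one_or (m c)).resolve_left h2]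

/-- the commutator relation of `Sp₄` -/
theorem conj_XZ (t c : F) : (frame 2 F).X (0, true) (1, false) t * (frame 2 F).Z (1, true) (adm c) *
    ((frame 2 F).X (0, true) (1, false) t)⁻¹ =
      (frame 2 F).Z (0, true) (adm (t * t * c)) * (frame 2 F).X (0, true) (1, true) (c * t) *
        (frame 2 F).Z (1, true) (adm c) := by
  have h := (frame 2 F).conj_X_Z (x := ((0 : Fin 2), true)) (y := ((1 : Fin 2), true)) (by decide) t (adm c)
  have e1 : (Frame.Adm.smul ((form 2 F).σ t) (adm c) : (frame 2 F).Adm) = adm (t * t * c) := by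
    rw [eq_adm (Frame.Adm.smul ((form 2 F).σ t) (adm c))]
    rfl
  have e2 : -((form 2 F).ε⁻¹ * (frame 2 F).η ((1 : Fin 2), true) * (form 2 F).σ (adm c : (frame 2 F).Adm).c * t) =
      c * t := by
    rw [eta_one, form_ε, form_σ, CharTwo.neg_eq, CharTwo.neg_eq, inv_one, one_mul, one_mul]
    rfl
  rw [e1, e2] at h
  exact h

/-- the elements of the root groups -/
noncomputable def zz (a : Fin 2 × Bool) (c : F) : Y 2 F := ⟨(frame 2 F).Z a (adm c), (frame 2 F).isIso_Z _ _⟩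

noncomputable def xx (a b : Fin 2 × Bool) (c : F) : Y 2 F := ⟨(frame 2 F).X a b c, (frame 2 F).isIso_X _ _ _⟩

theorem zz_add (a : Fin 2 × Bool) (c d : F) : zz a (c + d) = zz a c * zz a d := by
  apply Subtype.ext
  show (frame 2 F).Z a (adm (c + d)) = (frame 2 F).Z a (adm c) * (frame 2 F).Z a (adm d)
  rw [adm_add, (frame 2 F).Z_mul]

theorem xx_add (a b : Fin 2 × Bool) (c d : F) : xx a b (c + d) = xx a b c * xx a b d :=
  Subtype.ext ((frame 2 F).X_add a b c d)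

theorem conj_xz (t c : F) : xx (0, true) (1, false) t * zz (1, true) c * (xx (0, true) (1, false) t)⁻¹ =
    zz (0, true) (t * t * c) * xx (0, true) (1, true) (c * t) * zz (1, true) c := Subtype.ext (conj_XZ t c)

theorem ee_zero (x : Fin 2 → ℤ) : ee x 0 = x 0 := by
  show (∑ j, x j • bt j) 0 = _
  simp [Fin.sum_univ_two, bt_apply]

theorem ee_one (x : Fin 2 → ℤ) : ee x 1 = 2 * x 1 - x 0 := by
  show (∑ j, x j • bt j) 1 = _
  simp [Fin.sum_univ_two, bt_apply]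
  ring

theorem nn2 {a b : ℤ} (ha : 0 ≤ a) (hb : 0 ≤ b) : (0 : Fin 2 → ℤ) ≤ ![a, b] := by
  intro k
  fin_cases k
  · exact ha
  · exact hb

/-- the elements of the positive root groups -/
theorem mem_pos {x : Fin 2 → ℤ} (hx : x ∈ RGD.Pos csB (isCartan 2)) {y : Y 2 F} (hy : y ∈ XX 2 F x) :
    (∃ c, y = xx (0, true) (1, false) c) ∨ (∃ c, y = zz (1, true) c) ∨
      (∃ c, y = xx (0, true) (1, true) c) ∨ ∃ c, y = zz (0, true) c := by
  obtain ⟨hroot, h0⟩ := hx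
  obtain ⟨a, b, hab, e⟩ := isRoot_iff.1 hroot
  have q0 := congrFun e 0
  have q1 := congrFun e 1
  rw [ee_zero, Pi.add_apply, wt_apply, wt_apply] at q0
  rw [ee_one, Pi.add_apply, wt_apply, wt_apply] at q1
  have x0 : 0 ≤ x 0 := h0 0
  have x1 : 0 ≤ x 1 := h0 1
  have h1 : y.1 ∈ rg (frame 2 F) x := Subgroup.mem_subgroupOf.1 hy
  rw [rg_eq (frame 2 F) hab e] at h1
  have hX : ∀ {a b : Fin 2 × Bool}, a.1 ≠ b.1 → y.1 ∈ PG (frame 2 F) a b → ∃ c, y = xx a b c := by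
    intro a b hne h
    rw [PG_ne _ hne] at h
    obtain ⟨c, hc⟩ := h
    exact ⟨c, Subtype.ext hc⟩
  have hZ : ∀ {a : Fin 2 × Bool}, y.1 ∈ PG (frame 2 F) a a → ∃ c, y = zz a c := by
    intro a h
    rw [PG_self] at h
    obtain ⟨p, hp⟩ := h
    refine ⟨p.c, Subtype.ext ?_⟩
    rw [hp, eq_adm p]
    rfl
  obtain ⟨i, s⟩ := a
  obtain ⟨j, t⟩ := b
  fin_cases i <;> fin_cases j <;> cases s <;> cases t <;> simp [Ok] at hab q0 q1 <;> first
    | (exfalso; omega)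
    | exact Or.inl (hX (by decide) h1)
    | exact Or.inl (hX (by decide) ((PG_swap (frame 2 F) (Or.inl (by decide))).le h1))
    | exact Or.inr (Or.inl (hZ h1))
    | exact Or.inr (Or.inr (Or.inl (hX (by decide) h1)))
    | exact Or.inr (Or.inr (Or.inl (hX (by decide) ((PG_swap (frame 2 F) (Or.inl (by decide))).le h1))))
    | exact Or.inr (Or.inr (Or.inr (hZ h1)))

/-- the unipotent group -/
abbrev UU (F : Type u) [Field F] [Finite F] [CharP F 2] : Subgroup (Y 2 F) := RGD.Sup (XX 2 F) (RGD.Pos csB (isCartan 2))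

theorem mem_UU {a b : Fin 2 × Bool} (hab : Ok a b) {x : Fin 2 → ℤ} (e : ee x = wt a + wt b) (h0 : 0 ≤ x) {y : Y 2 F}
    (hy : y.1 ∈ PG (frame 2 F) a b) : y ∈ UU F := by
  refine RGD.le_Sup (S := RGD.Pos csB (isCartan 2)) ⟨isRoot_iff.2 ⟨a, b, hab, e⟩, h0⟩ (Subgroup.mem_subgroupOf.2 ?_)
  rwa [rg_eq (frame 2 F) hab e]

theorem xx_mem_PG {a b : Fin 2 × Bool} (h : a.1 ≠ b.1) (c : F) : (xx a b c).1 ∈ PG (frame 2 F) a b := by
  rw [PG_ne _ h]
  exact ⟨c, rfl⟩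

theorem zz_mem_PG (a : Fin 2 × Bool) (c : F) : (zz a c).1 ∈ PG (frame 2 F) a a := by
  rw [PG_self]
  exact ⟨_, rfl⟩

theorem m1 (c : F) : xx (0, true) (1, false) c ∈ UU F := by
  refine mem_UU (x := ![1, 0]) (Or.inl (by decide)) ?_ (nn2 (by decide) (by decide)) (xx_mem_PG (by decide) c)
  funext k
  fin_cases k
  · show ee ![1, 0] 0 = _
    rw [ee_zero, Pi.add_apply, wt_apply, wt_apply]
    simp
  · show ee ![1, 0] 1 = _
    rw [ee_one, Pi.add_apply, wt_apply, wt_apply]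
    simp

theorem m2 (c : F) : zz (1, true) c ∈ UU F := by
  refine mem_UU (x := ![0, 1]) (Or.inr rfl) ?_ (nn2 (by decide) (by decide)) (zz_mem_PG (1, true) c)
  funext k
  fin_cases k
  · show ee ![0, 1] 0 = _
    rw [ee_zero, Pi.add_apply, wt_apply]
    simp
  · show ee ![0, 1] 1 = _
    rw [ee_one, Pi.add_apply, wt_apply]
    simp

theorem m3 (c : F) : xx (0, true) (1, true) c ∈ UU F := by
  refine mem_UU (x := ![1, 1]) (Or.inl (by decide)) ?_ (nn2 (by decide) (by decide)) (xx_mem_PG (by decide) c)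
  funext k
  fin_cases k
  · show ee ![1, 1] 0 = _
    rw [ee_zero, Pi.add_apply, wt_apply, wt_apply]
    simp
  · show ee ![1, 1] 1 = _
    rw [ee_one, Pi.add_apply, wt_apply, wt_apply]
    simp

theorem m4 (c : F) : zz (0, true) c ∈ UU F := by
  refine mem_UU (x := ![2, 1]) (Or.inr rfl) ?_ (nn2 (by decide) (by decide)) (zz_mem_PG (0, true) c)
  funext k
  fin_cases k
  · show ee ![2, 1] 0 = _
    rw [ee_zero, Pi.add_apply, wt_apply]
    simp
  · show ee ![2, 1] 1 = _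
    rw [ee_one, Pi.add_apply, wt_apply]
    simp

theorem xx_mem (c : F) : xx (0, true) (1, false) c ∈ XX 2 F (sr (0 : Fin 2)) := by
  refine Subgroup.mem_subgroupOf.2 ?_
  have hnx : nx (0 : Fin 2) = (1, false) := by decide
  rw [WittRGD.rg_sr, hnx]
  exact xx_mem_PG (by decide) c

theorem zz_mem (c : F) : zz (1, true) c ∈ XX 2 F (sr (1 : Fin 2)) := by
  refine Subgroup.mem_subgroupOf.2 ?_
  have hnx : nx (1 : Fin 2) = (1, true) := by decide
  rw [WittRGD.rg_sr, hnx]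
  exact zz_mem_PG (1, true) c

theorem eq_zz {y : Y 2 F} (hy : y ∈ XX 2 F (sr (1 : Fin 2))) : ∃ c, y = zz (1, true) c := by
  obtain ⟨p, hp⟩ := mem_XX_last (m := 2) (i := (1 : Fin 2)) (by decide) hy
  refine ⟨p.c, Subtype.ext ?_⟩
  rw [hp, eq_adm p]
  rfl

/-- homomorphisms which agree on the root elements -/
theorem hom_ext {l m : UU F →* ℤˣ} (h1 : ∀ c : F, l ⟨_, m1 c⟩ = m ⟨_, m1 c⟩) (h2 : ∀ c : F, l ⟨_, m2 c⟩ = m ⟨_, m2 c⟩)
    (h3 : ∀ c : F, l ⟨_, m3 c⟩ = m ⟨_, m3 c⟩) (h4 : ∀ c : F, l ⟨_, m4 c⟩ = m ⟨_, m4 c⟩) : l = m := by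
  have h : UU F ≤ (l.eqLocus m).map (UU F).subtype := by
    refine RGD.Sup_le fun x hx y hy => ?_
    rcases mem_pos hx hy with ⟨c, rfl⟩ | ⟨c, rfl⟩ | ⟨c, rfl⟩ | ⟨c, rfl⟩
    · exact ⟨⟨_, m1 c⟩, h1 c, rfl⟩
    · exact ⟨⟨_, m2 c⟩, h2 c, rfl⟩
    · exact ⟨⟨_, m3 c⟩, h3 c, rfl⟩
    · exact ⟨⟨_, m4 c⟩, h4 c, rfl⟩
  ext u
  obtain ⟨v, hv, e⟩ := h u.2
  have e' : v = u := Subtype.ext e
  rw [e'] at hv
  exact congrArg Units.val hv

/-- homomorphisms vanish on the root groups of the non simple roots -/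
theorem hom_comm (hq : ∃ u : F, u ≠ 0 ∧ u ≠ 1) (l : UU F →* ℤˣ) :
    (∀ c : F, l ⟨_, m3 c⟩ = 1) ∧ ∀ c : F, l ⟨_, m4 c⟩ = 1 := by
  have hrel : ∀ t c : F, l ⟨_, m4 (t * t * c)⟩ * l ⟨_, m3 (c * t)⟩ = 1 := by
    intro t c
    have h1 : (⟨_, m1 t⟩ : UU F) * ⟨_, m2 c⟩ * (⟨_, m1 t⟩)⁻¹ = ⟨_, m4 (t * t * c)⟩ * ⟨_, m3 (c * t)⟩ * ⟨_, m2 c⟩ :=
      Subtype.ext (conj_xz t c)
    have h2 := congrArg l h1
    rw [map_mul, map_mul, map_mul, map_mul, map_inv, mul_comm (l ⟨_, m1 t⟩), mul_inv_cancel_right] at h2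
    exact mul_eq_right.1 h2.symm
  have h5 : ∀ s d : F, s ≠ 0 → d ≠ 0 → l ⟨_, m4 d⟩ * l ⟨_, m3 s⟩ = 1 := by
    intro s d hs hd
    have h6 := hrel (d / s) (s * s / d)
    have e1 : d / s * (d / s) * (s * s / d) = d := by field_simp
    have e2 : s * s / d * (d / s) = s := by field_simp
    simp only [e1, e2] at h6
    exact h6
  obtain ⟨u, hu0, hu1⟩ := hq
  have hu : (1 : F) + u ≠ 0 := by
    intro h
    apply hu1
    have := eq_neg_of_add_eq_zero_right h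
    rwa [CharTwo.neg_eq] at this
  have h7 : l ⟨_, m4 (1 + u)⟩ = l ⟨_, m4 1⟩ * l ⟨_, m4 u⟩ := by
    rw [← map_mul]
    congr 1
    exact Subtype.ext (zz_add _ _ _)
  have h8 : ∀ d : F, d ≠ 0 → l ⟨_, m4 d⟩ = (l ⟨_, m3 1⟩)⁻¹ := fun d hd => eq_inv_of_mul_eq_one_left (h5 1 d one_ne_zero hd)
  have h9 : l ⟨_, m3 1⟩ = 1 := by
    rw [h8 _ hu, h8 _ one_ne_zero, h8 _ hu0] at h7
    have := mul_eq_left.1 h7.symm
    exact inv_eq_one.1 this
  have h10 : ∀ d : F, d ≠ 0 → l ⟨_, m4 d⟩ = 1 := fun d hd => by rw [h8 d hd, h9, inv_one]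
  constructor
  · intro c
    by_cases hc : c = 0
    · have : (⟨_, m3 c⟩ : UU F) = 1 := by
        have h11 : (⟨_, m3 c⟩ : UU F) * ⟨_, m3 c⟩ = ⟨_, m3 c⟩ := by
          apply Subtype.ext
          show xx _ _ c * xx _ _ c = xx _ _ c
          rw [← xx_add, hc, add_zero]
        exact mul_eq_left.1 h11
      rw [this, map_one]
    · have := h5 c 1 hc one_ne_zero
      rwa [h10 1 one_ne_zero, one_mul] at this
  · intro c
    by_cases hc : c = 0
    · have : (⟨_, m4 c⟩ : UU F) = 1 := by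
        have h11 : (⟨_, m4 c⟩ : UU F) * ⟨_, m4 c⟩ = ⟨_, m4 c⟩ := by
          apply Subtype.ext
          show zz _ c * zz _ c = zz _ c
          rw [← zz_add, hc, add_zero]
        exact mul_eq_left.1 h11
      rw [this, map_one]
    · exact h10 c hc

/-! ### the action of `β ^ 2` on the long simple root group -/

/-- the diagonal entries -/
noncomputable def dg (s : TT 2 F) : I4 → F
  | .inl k => ((ev (k, false) s : Fˣ) : F)
  | .inr k => ((ev (k, true) s : Fˣ) : F)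

theorem coe_tor' (s : TT 2 F) : (toSp (s : Y 2 F) : Matrix I4 I4 F) = Matrix.diagonal (dg s) := by
  ext i j
  rw [coe_tor, Matrix.diagonal_apply]
  by_cases h : i = j
  · subst h
    rw [if_pos rfl, if_pos rfl]
    cases i <;> rfl
  · rw [if_neg h, if_neg h]

theorem dg_mul_inv (s : TT 2 F) (i : I4) : dg s i * dg s⁻¹ i = 1 := by
  rcases i with i | i
  · show ((ev (i, false) s : Fˣ) : F) * ((ev (i, false) s⁻¹ : Fˣ) : F) = 1
    rw [map_inv, Units.mul_inv]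
  · show ((ev (i, true) s : Fˣ) : F) * ((ev (i, true) s⁻¹ : Fˣ) : F) = 1
    rw [map_inv, Units.mul_inv]

/-- the torus on the long simple root group -/
theorem conj_zz (s : TT 2 F) : ∃ a : F, a ≠ 0 ∧ ∀ c : F, (s : Y 2 F) * zz (1, true) c * (s : Y 2 F)⁻¹ = zz (1, true) (a * c) := by
  refine ⟨dg s (.inr 1) * dg s⁻¹ (.inl 1), ?_, fun c => ?_⟩
  · have h1 := dg_mul_inv s (.inr 1)
    have h2 := dg_mul_inv s (.inl 1)
    exact mul_ne_zero (left_ne_zero_of_mul_eq_one h1) (right_ne_zero_of_mul_eq_one h2)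
  · apply toSp_injective
    apply Subtype.ext
    have e1 : (toSp ((s : Y 2 F) * zz (1, true) c * (s : Y 2 F)⁻¹) : Matrix I4 I4 F) =
        (toSp (s : Y 2 F) : Matrix I4 I4 F) * (toSp (zz (1, true) c) : Matrix I4 I4 F) *
          (toSp ((s⁻¹ : TT 2 F) : Y 2 F) : Matrix I4 I4 F) := by
      rw [map_mul, map_mul]
      rfl
    rw [e1, coe_tor', coe_tor']
    ext i j
    have h1 := lm_Z (y := zz (1, true) c) (p := adm c) rfl
    have h2 := lm_Z (y := zz (1, true) (dg s (.inr 1) * dg s⁻¹ (.inl 1) * c)) (p := adm _) rfl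
    rw [Matrix.mul_diagonal, Matrix.diagonal_mul, h1, h2, eta_one, mul_one, mul_one]
    by_cases hij : i = j
    · subst hij
      have hn : ¬ (i = .inr 1 ∧ i = (.inl 1 : I4)) := by
        rintro ⟨h, h'⟩
        rw [h] at h'
        cases h'
      rw [if_pos rfl, if_neg hn, if_neg hn, add_zero, mul_one, dg_mul_inv]
    · rw [if_neg hij, zero_add, zero_add]
      by_cases h3 : i = .inr 1 ∧ j = .inl 1
      · obtain ⟨rfl, rfl⟩ := h3
        rw [if_pos ⟨rfl, rfl⟩, if_pos ⟨rfl, rfl⟩]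
        show _ * c * _ = _ * c
        ring
      · rw [if_neg h3, if_neg h3, mul_zero, zero_mul]

/-- `β ^ 2` on the long simple root group -/
theorem sq_zz (hN : Nrm (RR F) β σ) {x : Y 2 F} {k : ℕ} (hβ : β = MulAut.conj x * gY F ^ k) :
    ∃ a : F, a ≠ 0 ∧ ∀ c : F, β (β (zz (1, true) c)) = zz (1, true) (a * c ^ 2 ^ k) := by
  obtain ⟨s, hs, e⟩ := sq_eq hN hβ
  obtain ⟨a, ha, h⟩ := conj_zz (F := F) ⟨s, hs⟩
  refine ⟨a, ha, fun c => ?_⟩
  rw [← h, ← MulAut.mul_apply, ← sq, e, MulAut.mul_apply, MulAut.conj_apply]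
  have h1 : (gY F ^ (2 * k)) (zz (1, true) c) = zz (1, true) (c ^ 2 ^ k) :=
    Subtype.ext (gY_pow_Z k (1, true) (adm c) rfl)
  rw [h1]

theorem perm_zero : ∀ σ : Equiv.Perm (Fin 2), σ ≠ 1 → σ 0 = 1 := by decide

/-- **at most one non trivial invariant homomorphism** -/
theorem oneHom (hN : Nrm (RR F) β σ) (hσ : σ ≠ 1) {x : Y 2 F} {k f : ℕ} (hβ : β = MulAut.conj x * gY F ^ k)
    (hc : Nat.Coprime k f) (hf : 2 ≤ f) (hF : Nat.card F = 2 ^ f) : H967.K547.Special.OneHom β (UU F) := by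
  have hq : ∃ u : F, u ≠ 0 ∧ u ≠ 1 := by
    by_contra hcon
    push Not at hcon
    obtain ⟨a, ha, -⟩ := exists_unit hf dvd_rfl hF
    exact ha (Units.ext (hcon a a.ne_zero))
  obtain ⟨a, ha, hsq⟩ := sq_zz hN hβ
  have hUβ : ∀ u ∈ UU F, β u ∈ UU F := fun u hu => (hN.fixU u).2 hu
  -- homomorphisms which agree on the long simple root group
  have key : ∀ l m : UU F →* ℤˣ, (∀ (u : UU F) (hu : β u ∈ UU F), l ⟨β u, hu⟩ = l u) →
      (∀ (u : UU F) (hu : β u ∈ UU F), m ⟨β u, hu⟩ = m u) → (∀ c : F, l ⟨_, m2 c⟩ = m ⟨_, m2 c⟩) → l = m := by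
    intro l m hl hm h
    refine hom_ext (fun c => ?_) h (fun c => ?_) fun c => ?_
    · have h1 : β (xx (0, true) (1, false) c) ∈ XX 2 F (sr (1 : Fin 2)) := by
        have := (hN.diag.pos (0 : Fin 2) (xx (0, true) (1, false) c)).2 (xx_mem c)
        rwa [perm_zero σ hσ] at this
      obtain ⟨d, hd⟩ := eq_zz h1
      have h2 := hl ⟨_, m1 c⟩ (hUβ _ (m1 c))
      have h3 := hm ⟨_, m1 c⟩ (hUβ _ (m1 c))
      rw [← h2, ← h3]
      simp only [hd]
      exact h d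
    · rw [(hom_comm hq l).1, (hom_comm hq m).1]
    · rw [(hom_comm hq l).2, (hom_comm hq m).2]
  have hne : ∀ l : UU F →* ℤˣ, (∀ (u : UU F) (hu : β u ∈ UU F), l ⟨β u, hu⟩ = l u) → l ≠ 1 →
      ∃ c : F, l ⟨_, m2 c⟩ ≠ 1 := by
    intro l hl h1
    by_contra hcon
    push Not at hcon
    exact h1 (key l 1 hl (fun _ _ => rfl) fun c => by rw [hcon]; rfl)
  have hadd : ∀ l : UU F →* ℤˣ, ∀ c d : F, l ⟨_, m2 (c + d)⟩ = l ⟨_, m2 c⟩ * l ⟨_, m2 d⟩ := by
    intro l c d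
    rw [← map_mul]
    congr 1
    exact Subtype.ext (zz_add _ _ _)
  have hinv : ∀ l : UU F →* ℤˣ, (∀ (u : UU F) (hu : β u ∈ UU F), l ⟨β u, hu⟩ = l u) →
      ∀ c : F, l ⟨_, m2 (a * c ^ 2 ^ k)⟩ = l ⟨_, m2 c⟩ := by
    intro l hl c
    have h1 := hl ⟨_, m2 c⟩ (hUβ _ (m2 c))
    have h2 := hl ⟨_, hUβ _ (m2 c)⟩ (hUβ _ (hUβ _ (m2 c)))
    simp only [hsq] at h2
    rw [h2, h1]
  intro l m hl hm hl1 hm1
  obtain ⟨c₀, hc₀⟩ := hne l hl hl1
  obtain ⟨d₀, hd₀⟩ := hne m hm hm1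
  have h1 := char_unique (l := fun c : F => l ⟨_, m2 c⟩) (m := fun c : F => m ⟨_, m2 c⟩) ha
    (fun u hu => unit_eq_one hc hF hu) (hadd l) (hadd m) (hinv l hl) (hinv m hm) hc₀ hd₀
  exact key l m hl hm fun c => congrFun h1 c

/-- **The special row.** -/
theorem special_Y [IsSimpleGroup (Y 2 F)] (hna : ¬ IsMulCommutative (Y 2 F)) (hN : Nrm (RR F) β σ) (hσ : σ ≠ 1)
    (ho : ¬ IsInn β) {f : ℕ} (hf : 2 ≤ f) (hF : Nat.card F = 2 ^ f) (he : ∃ e, f = 2 ^ e) : ExtRow (Y 2 F) β := by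
  obtain ⟨x, k, hβ⟩ := exists_pow β
  have hk := odd_of_ne hN hσ hβ
  have hc : Nat.Coprime k f := by
    obtain ⟨e, rfl⟩ := he
    exact Nat.Coprime.pow_right e (Nat.coprime_two_right.2 hk)
  refine H967.K547.Special.extRow_special (hGG F) hna hN ho ?_ (no_fix hN hβ hc hF) (oneHom hN hσ hβ hc hf hF)
  have h01 := perm_zero σ hσ
  have h10 := perm_one σ hσ
  intro i j
  fin_cases i <;> fin_cases j
  · exact ⟨0, rfl⟩
  · exact ⟨1, by rw [pow_one]; exact h01⟩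
  · exact ⟨1, by rw [pow_one]; exact h10⟩
  · exact ⟨0, rfl⟩

end Cfsg.Agent.H511.K547
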